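import Mathlib.AlgebraicGeometry.Morphisms.ClosedImmersion
import Mathlib.AlgebraicGeometry.Morphisms.FinitePresentation
import Mathlib.AlgebraicGeometry.Pullbacks
import Mathlib.AlgebraicGeometry.Gluing
import Mathlib.Algebra.Module.Projective
import Mathlib.RingTheory.FinitePresentation

/-!
Restriction of scalars of a closed subscheme along a projective algebra.
-/

set_option autoImplicit false
set_option linter.style.haveILetI false
set_option linter.unusedSectionVars false
set_option backward.isDefEq.respectTransparency false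
set_option backward.isDefEq.respectTransparency.types false

universe u

open CategoryTheory CategoryTheory.Limits AlgebraicGeometry TensorProduct

namespace Groth.Agent.WeilClosed

/-- The content of an ideal of a projective algebra. -/
theorem exists_content {A B : Type u} [CommRing A] [CommRing B] [Algebra A B] [Module.Projective A B] (J : Ideal B) :
    ∃ I : Ideal A, (∀ (R : Type u) [CommRing R] [Algebra A R],
      (∀ j ∈ J, j ⊗ₜ[A] (1 : R) = 0) ↔ ∀ a ∈ I, algebraMap A R a = 0) ∧ (J.FG → I.FG) := by
  classical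
  obtain ⟨s, hs⟩ := Module.projective_def'.1 ‹Module.Projective A B›
  have hrep : ∀ x : B, (s x).sum (fun b c => c • b) = x := fun x => by
    have := LinearMap.congr_fun hs x
    rwa [LinearMap.comp_apply, Finsupp.linearCombination_apply] at this
  let I : Ideal A := Ideal.span {a | ∃ j ∈ J, ∃ b, s j b = a}
  refine ⟨I, fun R _ _ => ⟨fun h a ha => ?_, fun h j hj => ?_⟩, fun hJ => ?_⟩
  · refine Submodule.span_induction (p := fun a _ => algebraMap A R a = 0) ?_ (map_zero _)
      (fun x y _ _ hx hy => by rw [map_add, hx, hy, add_zero])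
      (fun c x _ hx => by rw [smul_eq_mul, map_mul, hx, mul_zero]) ha
    rintro _ ⟨j, hj, b, rfl⟩
    have h1 := congrArg (fun z => TensorProduct.lid A R ((Finsupp.lapply b ∘ₗ s).rTensor R z)) (h j hj)
    simpa [Algebra.smul_def] using h1
  · rw [← hrep j, Finsupp.sum, sum_tmul]
    refine Finset.sum_eq_zero fun b _ => ?_
    rw [smul_tmul, Algebra.smul_def, h _ (Ideal.subset_span ⟨j, hj, b, rfl⟩), zero_mul, tmul_zero]
  · obtain ⟨G, hG⟩ := hJ
    let I₀ : Ideal A := Ideal.span (↑(G.biUnion fun g => (s g).support.image (s g)) : Set A)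
    suffices hI : I = I₀ from hI ▸ ⟨_, rfl⟩
    refine le_antisymm (Ideal.span_le.2 ?_) (Ideal.span_le.2 fun a ha => ?_)
    · rintro _ ⟨j, hj, b, rfl⟩
      have h1 : J ≤ I₀.map (algebraMap A B) := by
        rw [← hG]
        refine Ideal.span_le.2 fun g hg => ?_
        rw [← hrep g]
        refine Ideal.sum_mem _ fun b hb => ?_
        show s g b • b ∈ _
        rw [Algebra.smul_def]
        exact Ideal.mul_mem_right _ _ (Ideal.mem_map_of_mem _ (Ideal.subset_span
          (Finset.mem_biUnion.2 ⟨g, hg, Finset.mem_image_of_mem _ hb⟩)))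
      have h2 : j ∈ I₀ • (⊤ : Submodule A B) := by
        rw [Ideal.smul_top_eq_map]
        exact h1 hj
      refine Submodule.smul_induction_on (p := fun x => s x b ∈ I₀) h2 (fun c hc x _ => ?_) fun x y hx hy => ?_
      · rw [map_smul, Finsupp.smul_apply, smul_eq_mul]
        exact I₀.mul_mem_right _ hc
      · rw [map_add, Finsupp.add_apply]
        exact add_mem hx hy
    · obtain ⟨g, hg, ha⟩ := Finset.mem_biUnion.1 ha
      obtain ⟨b, -, rfl⟩ := Finset.mem_image.1 ha
      exact Ideal.subset_span ⟨g, hG ▸ Ideal.subset_span hg, b, rfl⟩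

/-- A morphism of spectra factors through a closed subscheme. -/
theorem exists_factor_iff {R R' : Type u} [CommRing R] [CommRing R'] (I : Ideal R) (g : R →+* R') :
    (∃ l : Spec (CommRingCat.of R') ⟶ Spec (CommRingCat.of (R ⧸ I)),
      l ≫ Spec.map (CommRingCat.ofHom (Ideal.Quotient.mk I)) = Spec.map (CommRingCat.ofHom g)) ↔
      ∀ a ∈ I, g a = 0 := by
  refine ⟨fun ⟨l, hl⟩ a ha => ?_, fun h => ⟨Spec.map (CommRingCat.ofHom (Ideal.Quotient.lift I g h)), ?_⟩⟩
  · obtain ⟨k, rfl⟩ := Spec.map_surjective l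
    rw [← Spec.map_comp] at hl
    have h1 := congr($(Spec.map_injective hl).hom a)
    refine (show g a = k.hom (Ideal.Quotient.mk I a) from h1.symm).trans ?_
    rw [Ideal.Quotient.eq_zero_iff_mem.2 ha, map_zero]
  · rw [← Spec.map_comp]
    rfl

/-- The base change of a monomorphism is an isomorphism iff the map factors through it. -/
theorem isIso_snd_iff {Y X W : Scheme.{u}} (i : Y ⟶ X) [Mono i] (p : W ⟶ X) :
    IsIso (pullback.snd i p) ↔ ∃ l, l ≫ i = p := by
  refine ⟨fun _ => ⟨inv (pullback.snd i p) ≫ pullback.fst i p, ?_⟩, fun ⟨l, hl⟩ => ?_⟩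
  · rw [Category.assoc, pullback.condition, IsIso.inv_hom_id_assoc]
  · refine ⟨pullback.lift l (𝟙 W) (by rw [hl, Category.id_comp]), ?_, pullback.lift_snd _ _ _⟩
    rw [← cancel_mono (pullback.snd i p), Category.assoc, pullback.lift_snd, Category.comp_id, Category.id_comp]

variable {A B : Type u} [CommRing A] [CommRing B] [Algebra A B] (J : Ideal B) (I : Ideal A)

/-- The condition on a base agrees with the closed subscheme cut out by the content. -/
theorem factor_iff_of_content
    (hI : ∀ (R : Type u) [CommRing R] [Algebra A R], (∀ j ∈ J, j ⊗ₜ[A] (1 : R) = 0) ↔ ∀ a ∈ I, algebraMap A R a = 0)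
    {T : Scheme.{u}} (h : T ⟶ Spec (CommRingCat.of A)) :
    (∃ l, l ≫ Spec.map (CommRingCat.ofHom (Ideal.Quotient.mk I)) = h) ↔
      ∃ l, l ≫ Spec.map (CommRingCat.ofHom (Ideal.Quotient.mk J)) =
        pullback.fst (Spec.map (CommRingCat.ofHom (algebraMap A B))) h := by
  constructor
  · rintro ⟨l, rfl⟩
    obtain ⟨k, hk⟩ := (exists_factor_iff J (Algebra.TensorProduct.includeLeftRingHom : B →+* B ⊗[A] (A ⧸ I))).2
      ((hI (A ⧸ I)).2 fun a ha => Ideal.Quotient.eq_zero_iff_mem.2 ha)
    let m : pullback (Spec.map (CommRingCat.ofHom (algebraMap A B)))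
        (l ≫ Spec.map (CommRingCat.ofHom (Ideal.Quotient.mk I))) ⟶
        pullback (Spec.map (CommRingCat.ofHom (algebraMap A B)))
          (Spec.map (CommRingCat.ofHom (algebraMap A (A ⧸ I)))) :=
      pullback.lift (pullback.fst _ _) (pullback.snd _ _ ≫ l) (by
        rw [Category.assoc]; exact pullback.condition)
    refine ⟨m ≫ (pullbackSpecIso A B (A ⧸ I)).hom ≫ k, ?_⟩
    rw [Category.assoc, Category.assoc, hk, pullbackSpecIso_hom_fst, pullback.lift_fst]
  · rintro ⟨l, hl⟩
    haveI : IsClosedImmersion (Spec.map (CommRingCat.ofHom (Ideal.Quotient.mk I))) :=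
      IsClosedImmersion.spec_of_surjective _ Ideal.Quotient.mk_surjective
    have hloc : ∀ x : T.affineCover.I₀, ∃ l' : T.affineCover.X x ⟶ Spec (CommRingCat.of (A ⧸ I)),
        l' ≫ Spec.map (CommRingCat.ofHom (Ideal.Quotient.mk I)) = T.affineCover.f x ≫ h := by
      intro x
      suffices ∀ (R : CommRingCat.{u}) (c : Spec R ⟶ T), ∃ l' : Spec R ⟶ Spec (CommRingCat.of (A ⧸ I)),
          l' ≫ Spec.map (CommRingCat.ofHom (Ideal.Quotient.mk I)) = c ≫ h from this _ (T.affineCover.f x)
      intro R c
      obtain ⟨φ, hφ⟩ := Spec.map_surjective (c ≫ h)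
      letI : Algebra A R := φ.hom.toAlgebra
      have hφ' : Spec.map (CommRingCat.ofHom (algebraMap A R)) = c ≫ h := hφ
      let m : pullback (Spec.map (CommRingCat.ofHom (algebraMap A B))) (Spec.map (CommRingCat.ofHom (algebraMap A R))) ⟶
          pullback (Spec.map (CommRingCat.ofHom (algebraMap A B))) h :=
        pullback.lift (pullback.fst _ _) (pullback.snd _ _ ≫ c) (by
          rw [Category.assoc, ← hφ']; exact pullback.condition)
      have h1 : ∀ j ∈ J, j ⊗ₜ[A] (1 : R) = 0 :=
        (exists_factor_iff J (Algebra.TensorProduct.includeLeftRingHom : B →+* B ⊗[A] R)).1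
          ⟨(pullbackSpecIso A B R).inv ≫ m ≫ l, by
            rw [Category.assoc, Category.assoc, hl, pullback.lift_fst, pullbackSpecIso_inv_fst]⟩
      obtain ⟨l', hl'⟩ := (exists_factor_iff I (algebraMap A R)).2 ((hI R).1 h1)
      exact ⟨l', hl'.trans hφ'⟩
    choose lx hlx using hloc
    refine ⟨T.affineCover.glueMorphisms lx fun x y => ?_, ?_⟩
    · rw [← cancel_mono (Spec.map (CommRingCat.ofHom (Ideal.Quotient.mk I))), Category.assoc, Category.assoc, hlx,
        hlx, ← Category.assoc, ← Category.assoc, pullback.condition]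
    · refine T.affineCover.hom_ext _ _ fun x => ?_
      rw [Scheme.Cover.ι_glueMorphisms_assoc, hlx]

end Groth.Agent.WeilClosed
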